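import Cfsg.Agent.Omega.HOne.NSMod
import Mathlib.GroupTheory.PGroup

/-!
# WrCv, nonsplit `P`, `k = 2` (helper882), (9d): linear algebra

`F` is a finite field of characteristic 2.

* `scalar_of_fun` : an additive `α : F → F` such that each `z ↦ μ α (μ z)` is `α + scalar` or scalar, is a scalar, or
  `|F| = 4` and `α z = c (z² + z) + l z`;
* `scalar` : a group `Γ` of additive permutations of `F²` containing `SL₂(F)`, whose 2-subgroups have order `≤ 2 |F|`,
  without elements of order 4: if `w ∈ Γ` is `(z, x) ↦ (z, x + α z)` then `α` is a scalar;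
* `scalar_of_act` : the same for a group acting on `Y / B ≅ F²`.
-/

set_option autoImplicit false
set_option linter.unusedSectionVars false

namespace Cfsg.Agent.Omega.HOne.NSK

open Subgroup Cfsg.Agent.Omega.NatPair Cfsg.Agent.Lib.SL2Mat Cfsg.Agent.Omega.HOne.NSMod

variable {F : Type*} [Field F] [CharP F 2]

theorem two_self (x : F) : x + x = 0 := CharTwo.add_self_eq_zero x

theorem fun_zero {α : F → F} (ha : ∀ x y, α (x + y) = α x + α y) : α 0 = 0 := by
  have h := ha 0 0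
  rw [add_zero] at h
  exact left_eq_add.1 h

/-- the normalised case `α 1 = 0` -/
theorem fun_core {α : F → F} (ha : ∀ x y, α (x + y) = α x + α y) (h1 : α 1 = 0)
    (hm : ∀ μ : F, μ ≠ 0 → ∃ c, (∀ z, μ * α (μ * z) = α z + c * z) ∨ (∀ z, μ * α (μ * z) = c * z)) :
    (∀ z, α z = 0) ∨ ∃ c : F, c ≠ 0 ∧ (∀ z, α z = c * (z ^ 2 + z)) ∧ (∀ z : F, z ^ 4 = z) ∧ ∃ z : F, z ^ 2 ≠ z := by
  by_cases h0 : ∀ z, α z = 0
  · exact Or.inl h0
  right
  have hz0 := fun_zero ha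
  have key : ∀ μ : F, μ ≠ 0 → ∀ z, μ * α (μ * z) = α z + μ * α μ * z := by
    intro μ hμ
    obtain ⟨c, hc | hc⟩ := hm μ hμ
    · have h2 := hc 1
      rw [mul_one, mul_one, h1, zero_add] at h2
      intro z
      rw [hc, h2]
    · exfalso
      apply h0
      have h2 := hc μ⁻¹
      rw [mul_inv_cancel₀ hμ, h1, mul_zero] at h2
      have h3 : c = 0 := by
        rcases mul_eq_zero.1 h2.symm with h | h
        · exact h
        · exact absurd h (inv_ne_zero hμ)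
      intro z
      have h4 := hc (μ⁻¹ * z)
      rw [mul_inv_cancel_left₀ hμ, h3, zero_mul] at h4
      exact (mul_eq_zero.1 h4).resolve_left hμ
  have sym : ∀ z μ : F, z ≠ 0 → μ ≠ 0 → z * α z * (1 + μ ^ 2) = μ * α μ * (1 + z ^ 2) := by
    intro z μ hz hμ
    have h2 := key μ hμ z
    have h3 := key z hz μ
    rw [mul_comm z μ] at h3
    have h5 := two_self (z * α z)
    have h6 := two_self (μ * α μ)
    have h7 := two_self (z * μ * α (μ * z))
    linear_combination z * h2 - μ * h3 + h5 - h6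
  push Not at h0
  obtain ⟨m, hm0⟩ := h0
  have hm1 : m ≠ 0 := fun e => hm0 (by rw [e, hz0])
  have hm2 : m ≠ 1 := fun e => hm0 (by rw [e, h1])
  have hone : ∀ z : F, z ≠ 1 → (1 + z ^ 2) ≠ 0 := by
    intro z hz h
    apply hz
    have h2 : (z + 1) ^ 2 = 0 := by
      have := two_self z
      linear_combination h + this
    have h3 := pow_eq_zero_iff (two_ne_zero) |>.1 h2
    have := two_self (1 : F)
    linear_combination h3 - this
  have htwo : (2 : F) = 0 := CharTwo.two_eq_zero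
  obtain ⟨c, hc⟩ : ∃ c : F, c = m * α m / (1 + m ^ 2) := ⟨_, rfl⟩
  have hc0 : c ≠ 0 := by rw [hc]; exact div_ne_zero (mul_ne_zero hm1 hm0) (hone m hm2)
  have hval : ∀ z : F, z ≠ 0 → z * α z = c * (1 + z ^ 2) := by
    intro z hz
    rw [hc, div_mul_eq_mul_div, eq_div_iff (hone m hm2)]
    exact sym z m hz hm1
  have hroot : ∀ z : F, z ≠ 0 → z ≠ 1 → z ^ 2 + z + 1 = 0 := by
    intro z hz hz1
    have h2 := hval z hz
    have h3 := hval (z + 1) (fun h => hz1 (by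
      have := two_self (1 : F)
      linear_combination h - this))
    rw [ha, h1, add_zero] at h3
    have h4 : c * (z ^ 2 + z + 1) = 0 := by
      linear_combination -((z + 1) * h2 - z * h3) + c * (z + z ^ 2) * htwo
    exact (mul_eq_zero.1 h4).resolve_left hc0
  refine ⟨c, hc0, ?_, ?_, m, ?_⟩
  · intro z
    by_cases hz : z = 0
    · rw [hz, hz0]; ring
    by_cases hz1 : z = 1
    · rw [hz1, h1]
      have := two_self c
      linear_combination - this
    · have h2 := hroot z hz hz1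
      have h3 := hval z hz
      apply mul_left_cancel₀ hz
      rw [h3]
      linear_combination -c * (z - 1) * h2
  · intro z
    by_cases hz : z = 0
    · rw [hz]; ring
    by_cases hz1 : z = 1
    · rw [hz1]; ring
    · have h2 := hroot z hz hz1
      have e1 := two_self z
      linear_combination (z ^ 2 - z) * h2
  · intro h
    have h2 := hroot m hm1 hm2
    have e1 := two_self m
    have : (1 : F) = 0 := by linear_combination h2 - h - e1
    exact one_ne_zero this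

theorem apply_inv_self {X : Type*} (e : Equiv.Perm X) (x : X) : e (e⁻¹ x) = x := by
  rw [← Equiv.Perm.mul_apply, mul_inv_cancel]; rfl

theorem ap_up (a : F) (x : Fin 2 → F) : ap (up a) x = ![x 0 + a * x 1, x 1] := by
  apply ext2
  · rw [ap_zero']; simp
  · rw [ap_one']; simp

/-- the unipotent elements of `Γ` -/
def uni (Γ : Subgroup (Equiv.Perm (Fin 2 → F))) : Subgroup (Equiv.Perm (Fin 2 → F)) where
  carrier := {γ | γ ∈ Γ ∧ ∃ α : F → F, ∀ v, γ v = ![v 0, v 1 + α (v 0)]}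
  one_mem' := ⟨one_mem _, fun _ => 0, fun v => by
    apply ext2 <;> simp⟩
  mul_mem' := by
    rintro a b ⟨ha, α, hα⟩ ⟨hb, β, hβ⟩
    refine ⟨mul_mem ha hb, fun z => β z + α z, fun v => ?_⟩
    rw [Equiv.Perm.mul_apply, hβ, hα]
    apply ext2
    · simp
    · simp only [Matrix.cons_val_zero, Matrix.cons_val_one]; ring
  inv_mem' := by
    rintro a ⟨ha, α, hα⟩
    refine ⟨inv_mem ha, α, fun v => ?_⟩
    apply a.injective
    rw [apply_inv_self, hα]
    apply ext2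
    · simp
    · simp only [Matrix.cons_val_zero, Matrix.cons_val_one]
      rw [add_assoc, two_self, add_zero]

/-- the scalar unipotent elements of `Γ` -/
def sca (Γ : Subgroup (Equiv.Perm (Fin 2 → F))) : Subgroup (Equiv.Perm (Fin 2 → F)) where
  carrier := {γ | γ ∈ Γ ∧ ∃ l : F, ∀ v, γ v = ![v 0, v 1 + l * v 0]}
  one_mem' := ⟨one_mem _, 0, fun v => by
    apply ext2 <;> simp⟩
  mul_mem' := by
    rintro a b ⟨ha, α, hα⟩ ⟨hb, β, hβ⟩
    refine ⟨mul_mem ha hb, β + α, fun v => ?_⟩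
    rw [Equiv.Perm.mul_apply, hβ, hα]
    apply ext2
    · simp
    · simp only [Matrix.cons_val_zero, Matrix.cons_val_one]; ring
  inv_mem' := by
    rintro a ⟨ha, α, hα⟩
    refine ⟨inv_mem ha, α, fun v => ?_⟩
    apply a.injective
    rw [apply_inv_self, hα]
    apply ext2
    · simp
    · simp only [Matrix.cons_val_zero, Matrix.cons_val_one]
      rw [add_assoc, two_self, add_zero]

theorem sca_le (Γ : Subgroup (Equiv.Perm (Fin 2 → F))) : sca Γ ≤ uni Γ := by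
  rintro γ ⟨h1, l, h2⟩
  exact ⟨h1, fun z => l * z, h2⟩

theorem uni_sq {Γ : Subgroup (Equiv.Perm (Fin 2 → F))} {γ : Equiv.Perm (Fin 2 → F)} (h : γ ∈ uni Γ) : γ * γ = 1 := by
  obtain ⟨-, α, hα⟩ := h
  apply Equiv.ext
  intro v
  rw [Equiv.Perm.mul_apply, hα, hα]
  apply ext2
  · simp
  · simp only [Matrix.cons_val_zero, Matrix.cons_val_one]
    rw [add_assoc, two_self, add_zero]
    rfl

/-- **(9d)** -/
theorem scalar [Finite F] (Γ : Subgroup (Equiv.Perm (Fin 2 → F)))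
    (hadd : ∀ γ ∈ Γ, ∀ x y, γ (x + y) = γ x + γ y)
    (hSL : ∀ A : Matrix.SpecialLinearGroup (Fin 2) F, ∃ γ ∈ Γ, ∀ v, γ v = ap A v)
    (h2 : ∀ T : Subgroup (Equiv.Perm (Fin 2 → F)), T ≤ Γ → (∀ t ∈ T, t * t = 1) → Nat.card T ≤ 2 * Nat.card F)
    (h4 : ∀ γ ∈ Γ, γ ^ 4 = 1 → γ ^ 2 = 1)
    {w : Equiv.Perm (Fin 2 → F)} (hw : w ∈ Γ) {α : F → F} (hα : ∀ v, w v = ![v 0, v 1 + α (v 0)]) :
    ∃ l : F, ∀ z, α z = l * z := by
  -- `α` is additive
  have ha : ∀ x y, α (x + y) = α x + α y := by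
    intro x y
    have h := hadd w hw ![x, 0] ![y, 0]
    rw [hα, hα, hα] at h
    have h1 := congrFun h 1
    simpa using h1
  have hSfin : Finite (Equiv.Perm (Fin 2 → F)) := inferInstance
  -- the order of `sca Γ`
  have hlo : ∀ l : F, ∃ γ ∈ sca Γ, ∀ v, γ v = ![v 0, v 1 + l * v 0] := by
    intro l
    obtain ⟨γ, hγ, h⟩ := hSL (lo l)
    have h' : ∀ v, γ v = ![v 0, v 1 + l * v 0] := fun v => by
      rw [h, ap_lo, add_comm]
    exact ⟨γ, ⟨hγ, l, h'⟩, h'⟩
  have hcard : Nat.card F ≤ Nat.card (sca Γ) := by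
    choose φ hφ1 hφ2 using hlo
    refine Nat.card_le_card_of_injective (fun l => (⟨φ l, hφ1 l⟩ : sca Γ)) ?_
    intro l l' h
    have h1 : φ l = φ l' := congrArg Subtype.val h
    have h3 : φ l ![1, 0] = φ l' ![1, 0] := by rw [h1]
    rw [hφ2, hφ2] at h3
    simpa using congrFun h3 1
  by_contra hcon
  have hwS : w ∉ sca Γ := by
    rintro ⟨-, l, hl⟩
    apply hcon
    refine ⟨l, fun z => ?_⟩
    have h3 := hl ![z, 0]
    rw [hα] at h3
    simpa using congrFun h3 1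
  have hwU : w ∈ uni Γ := ⟨hw, α, hα⟩
  -- index 2
  have hidx : (sca Γ).relIndex (uni Γ) = 2 := by
    have h3 : Nat.card (uni Γ) ≤ 2 * Nat.card F := h2 _ (fun γ h => h.1) fun t ht => uni_sq ht
    have h5 : Nat.card (sca Γ) * (sca Γ).relIndex (uni Γ) = Nat.card (uni Γ) := by
      rw [relIndex, ← Nat.card_congr (subgroupOfEquivOfLe (sca_le Γ)).toEquiv]
      exact card_mul_index _
    have h6 : (sca Γ).relIndex (uni Γ) ≠ 1 := fun h => hwS (relIndex_eq_one.1 h hwU)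
    have h7 : (sca Γ).relIndex (uni Γ) ≠ 0 := index_ne_zero_of_finite
    have h8 : 0 < Nat.card F := Nat.card_pos
    have h9 : (sca Γ).relIndex (uni Γ) ≤ 2 := by
      by_contra hc
      push Not at hc
      have h10 : Nat.card F * 3 ≤ Nat.card (sca Γ) * (sca Γ).relIndex (uni Γ) := Nat.mul_le_mul hcard hc
      omega
    omega
  have hmem : ∀ w' ∈ uni Γ, w * w' ∈ sca Γ ∨ w' ∈ sca Γ := by
    intro w' hw'
    by_contra hc
    push Not at hc
    have h3 := @mul_mem_iff_of_index_two _ _ _ hidx (⟨w, hwU⟩ : uni Γ) ⟨w', hw'⟩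
    rw [mem_subgroupOf, mem_subgroupOf, mem_subgroupOf] at h3
    exact hc.1 (h3.2 ⟨fun h => absurd h hwS, fun h => absurd h hc.2⟩)
  have hm : ∀ μ : F, μ ≠ 0 → ∃ c, (∀ z, μ * α (μ * z) = α z + c * z) ∨ (∀ z, μ * α (μ * z) = c * z) := by
    intro μ hμ
    obtain ⟨d, hd, hdv⟩ := hSL (dg μ⁻¹ (inv_ne_zero hμ))
    have hdv' : ∀ v, d v = ![μ⁻¹ * v 0, μ * v 1] := fun v => by rw [hdv, ap_dg, inv_inv]
    have hdi : ∀ v : Fin 2 → F, d⁻¹ v = ![μ * v 0, μ⁻¹ * v 1] := by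
      intro v
      apply d.injective
      rw [apply_inv_self, hdv']
      apply ext2 <;> simp [hμ]
    have hw' : ∀ v, (d * w * d⁻¹) v = ![v 0, v 1 + μ * α (μ * v 0)] := by
      intro v
      rw [Equiv.Perm.mul_apply, Equiv.Perm.mul_apply, hdi, hα, hdv']
      apply ext2
      · simp [hμ]
      · simp only [Matrix.cons_val_zero, Matrix.cons_val_one]
        rw [mul_add, mul_inv_cancel_left₀ hμ]
    have hwu' : d * w * d⁻¹ ∈ uni Γ := ⟨mul_mem (mul_mem hd hw) (inv_mem hd), fun z => μ * α (μ * z), hw'⟩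
    rcases hmem _ hwu' with ⟨-, l, hl⟩ | ⟨-, l, hl⟩
    · refine ⟨l, Or.inl fun z => ?_⟩
      have h3 := hl ![z, 0]
      rw [Equiv.Perm.mul_apply, hw', hα] at h3
      have h5 := congrFun h3 1
      simp only [Matrix.cons_val_zero, Matrix.cons_val_one, zero_add] at h5
      have h6 := two_self (α z)
      linear_combination h5 - h6
    · refine ⟨l, Or.inr fun z => ?_⟩
      have h3 := hl ![z, 0]
      rw [hw'] at h3
      simpa using congrFun h3 1
  -- normalise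
  obtain ⟨a, haa⟩ : ∃ a, a = α 1 := ⟨_, rfl⟩
  have hβ := fun_core (α := fun z => α z - a * z) (fun x y => by rw [ha]; ring) (by rw [haa, mul_one, sub_self])
    (by
      intro μ hμ
      obtain ⟨c, hc | hc⟩ := hm μ hμ
      · refine ⟨c + a - μ * (a * μ), Or.inl fun z => ?_⟩
        linear_combination hc z
      · refine ⟨c - μ * (a * μ), Or.inr fun z => ?_⟩
        linear_combination hc z)
  rcases hβ with hβ | ⟨c, hc0, hc, hz4, m, hm2⟩
  · exact hcon ⟨a, fun z => sub_eq_zero.1 (hβ z)⟩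
  -- an element of order 4
  have hc' : ∀ z, α z = c * (z ^ 2 + z) + a * z := fun z => by
    have := hc z
    linear_combination this
  obtain ⟨L, hL, hLv⟩ := hSL (lo a)
  obtain ⟨U, hU, hUv⟩ := hSL (up c⁻¹)
  have htwo : (2 : F) = 0 := CharTwo.two_eq_zero
  have hg : ∀ z y : F, (U * L * w) ![z, c * y] = ![y + z ^ 2, c * (y + z ^ 2 + z)] := by
    intro z y
    rw [Equiv.Perm.mul_apply, Equiv.Perm.mul_apply, hα, hLv, ap_lo, hUv, ap_up]
    simp only [Matrix.cons_val_zero, Matrix.cons_val_one]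
    rw [hc']
    apply ext2
    · simp only [Matrix.cons_val_zero]
      field_simp
      linear_combination (z * c + a * z) * htwo
    · simp only [Matrix.cons_val_one, Matrix.cons_val_zero]
      linear_combination (a * z) * htwo
  have hg2 : ∀ z y : F, ((U * L * w) ^ 2) ![z, c * y] = ![z ^ 2 + y ^ 2 + y, c * y ^ 2] := by
    intro z y
    rw [pow_two, Equiv.Perm.mul_apply, hg, hg]
    apply ext2
    · simp only [Matrix.cons_val_zero]
      linear_combination hz4 z + (z + z ^ 2 * y) * htwo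
    · simp only [Matrix.cons_val_one, Matrix.cons_val_zero]
      linear_combination c * hz4 z + (c * (z + z ^ 2 + y + z ^ 2 * y)) * htwo
  have hgΓ : U * L * w ∈ Γ := mul_mem (mul_mem hU hL) hw
  have hg4 : (U * L * w) ^ 4 = 1 := by
    apply Equiv.ext
    intro v
    have e : v = ![v 0, c * (c⁻¹ * v 1)] := by
      apply ext2
      · rfl
      · simp [hc0]
    have e4 : (U * L * w) ^ 4 = (U * L * w) ^ 2 * (U * L * w) ^ 2 := by rw [← pow_add]
    rw [e4, Equiv.Perm.mul_apply]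
    show ((U * L * w) ^ 2) (((U * L * w) ^ 2) v) = v
    conv_lhs => rw [e]
    rw [hg2, hg2]
    have h5 := hz4 (c⁻¹ * v 1)
    have h6 := hz4 (v 0)
    apply ext2
    · simp only [Matrix.cons_val_zero]
      linear_combination h6 + (((c⁻¹ * v 1) ^ 4 + (c⁻¹ * v 1) ^ 2 + (v 0) ^ 2 * (c⁻¹ * v 1) ^ 2 +
        (v 0) ^ 2 * (c⁻¹ * v 1) + (c⁻¹ * v 1) ^ 3)) * htwo
    · simp only [Matrix.cons_val_one, Matrix.cons_val_zero]
      calc c * ((c⁻¹ * v 1) ^ 2) ^ 2 = c * (c⁻¹ * v 1) ^ 4 := by ring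
        _ = c * (c⁻¹ * v 1) := by rw [h5]
        _ = v 1 := by rw [mul_inv_cancel_left₀ hc0]
  have h5 := h4 _ hgΓ hg4
  have h6 := hg2 0 m
  rw [h5] at h6
  have h7 := congrFun h6 1
  have h8 : c * m = c * m ^ 2 := h7
  exact hm2 (mul_left_cancel₀ hc0 h8).symm

/-! ### The group version -/

section act

variable {G : Type*} [Group G] {Y B X : Subgroup G} {π : G → Fin 2 → F}

omit [CharP F 2] in
theorem pi_conj (hmul : ∀ y ∈ Y, ∀ y' ∈ Y, π (y * y') = π y + π y') (hker : ∀ y ∈ Y, π y = 0 ↔ y ∈ B)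
    {x : G} (hxY : ∀ y ∈ Y, x * y * x⁻¹ ∈ Y) (hxB : ∀ y ∈ B, x * y * x⁻¹ ∈ B) {y y' : G} (hy : y ∈ Y) (hy' : y' ∈ Y)
    (h : π y = π y') : π (x * y * x⁻¹) = π (x * y' * x⁻¹) := by
  have h1 : π (y⁻¹ * y') = 0 := by
    have h2 := hmul y hy (y⁻¹ * y') (mul_mem (inv_mem hy) hy')
    rw [mul_inv_cancel_left, ← h] at h2
    exact left_eq_add.1 h2
  have h2 : y⁻¹ * y' ∈ Y := mul_mem (inv_mem hy) hy'
  have h3 : y⁻¹ * y' ∈ B := (hker _ h2).1 h1
  have h4 := hxB _ h3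
  have h5 : π (x * (y⁻¹ * y') * x⁻¹) = 0 := (hker _ (hxY _ h2)).2 h4
  have e : x * y' * x⁻¹ = x * y * x⁻¹ * (x * (y⁻¹ * y') * x⁻¹) := by group
  rw [e, hmul _ (hxY _ hy) _ (hxY _ h2), h5, add_zero]

/-- **(9d)** in the group: `X` acts on `Y / B ≅ F²` (coordinates `π`). -/
theorem scalar_of_act [Finite G] [Finite F] (hmul : ∀ y ∈ Y, ∀ y' ∈ Y, π (y * y') = π y + π y')
    (hker : ∀ y ∈ Y, π y = 0 ↔ y ∈ B) (hsurj : ∀ v : Fin 2 → F, ∃ y ∈ Y, π y = v)
    (hXY : ∀ x ∈ X, ∀ y ∈ Y, x * y * x⁻¹ ∈ Y) (hXB : ∀ x ∈ X, ∀ y ∈ B, x * y * x⁻¹ ∈ B)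
    (hSL : ∀ A : Matrix.SpecialLinearGroup (Fin 2) F, ∃ x ∈ X, ∀ y ∈ Y, π (x * y * x⁻¹) = ap A (π y))
    (C : Subgroup G) (hC : ∀ c ∈ C, ∀ y ∈ Y, π (c * y * c⁻¹) = π y)
    (h2 : ∀ T : Subgroup G, T ≤ X → IsPGroup 2 T → C.relIndex T ≤ 2 * Nat.card F)
    (h4 : ∀ T : Subgroup G, T ≤ X → IsPGroup 2 T → ∀ x ∈ T, x * x ∈ C)
    {w : G} (hw : w ∈ X) {α : F → F} (hα : ∀ y ∈ Y, π (w * y * w⁻¹) = ![π y 0, π y 1 + α (π y 0)]) :
    ∃ l : F, ∀ z, α z = l * z := by
  classical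
  have hp2 : Fact (Nat.Prime 2) := ⟨Nat.prime_two⟩
  choose s hsY hs using hsurj
  have hdep : ∀ x ∈ X, ∀ y ∈ Y, π (x * s (π y) * x⁻¹) = π (x * y * x⁻¹) := fun x hx y hy =>
    pi_conj hmul hker (hXY x hx) (hXB x hx) (hsY _) hy (hs _)
  let f : X → (Fin 2 → F) → (Fin 2 → F) := fun x v => π (x * s v * (x : G)⁻¹)
  have hf : ∀ (x : X) (y : G), y ∈ Y → f x (π y) = π (x * y * (x : G)⁻¹) := fun x y hy => hdep x x.2 y hy
  have hfm : ∀ (x x' : X) (v : Fin 2 → F), f (x * x') v = f x (f x' v) := by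
    intro x x' v
    have h1 : f x' v = π (x' * s v * (x' : G)⁻¹) := rfl
    rw [h1, hf x _ (hXY x' x'.2 _ (hsY v))]
    show π ((x * x' : G) * s v * (x * x' : G)⁻¹) = _
    congr 1; group
  have hf1 : ∀ v, f 1 v = v := by
    intro v
    show π ((1 : G) * s v * (1 : G)⁻¹) = v
    rw [one_mul, inv_one, mul_one, hs]
  let ρ : X →* Equiv.Perm (Fin 2 → F) :=
    MonoidHom.mk' (fun x => ⟨f x, f x⁻¹, fun v => by rw [← hfm, inv_mul_cancel, hf1], fun v => by
      rw [← hfm, mul_inv_cancel, hf1]⟩) (fun x x' => Equiv.ext fun v => hfm x x' v)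
  have hρ : ∀ (x : X) (y : G), y ∈ Y → ρ x (π y) = π (x * y * (x : G)⁻¹) := hf
  have hρC : ∀ x : X, (x : G) ∈ C → ρ x = 1 := by
    intro x hx
    apply Equiv.ext
    intro v
    have h1 := hρ x (s v) (hsY v)
    rw [hs, hC _ hx _ (hsY v), hs] at h1
    exact h1
  -- 2-subgroups of the image lift
  have hlift : ∀ T' : Subgroup (Equiv.Perm (Fin 2 → F)), T' ≤ ρ.range → IsPGroup 2 T' →
      ∃ T : Subgroup G, T ≤ X ∧ IsPGroup 2 T ∧ (∀ t' ∈ T', ∃ x : X, (x : G) ∈ T ∧ ρ x = t') ∧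
        ∀ x : X, (x : G) ∈ T → ρ x ∈ T' := by
    intro T' hT' hp
    let K : Subgroup X := T'.comap ρ
    let g : K →* T' := (ρ.comp K.subtype).codRestrict T' fun k => k.2
    have hg : Function.Surjective g := by
      rintro ⟨t', ht'⟩
      obtain ⟨x, hx⟩ := hT' ht'
      exact ⟨⟨x, by show ρ x ∈ T'; rw [hx]; exact ht'⟩, Subtype.ext hx⟩
    obtain ⟨Q⟩ : Nonempty (Sylow 2 K) := inferInstance
    have hQ : (Q.mapSurjective hg : Subgroup T') = ⊤ := by
      have h1 : IsPGroup 2 (⊤ : Subgroup T') := hp.to_subgroup ⊤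
      exact ((Q.mapSurjective hg).is_maximal' h1 le_top).symm
    refine ⟨((Q : Subgroup K).map K.subtype).map X.subtype, ?_, ?_, ?_, ?_⟩
    · rintro _ ⟨x, -, rfl⟩
      exact x.2
    · exact (Q.isPGroup'.map K.subtype).map X.subtype
    · intro t' ht'
      have h1 : (⟨t', ht'⟩ : T') ∈ (Q.mapSurjective hg : Subgroup T') := by rw [hQ]; exact mem_top _
      obtain ⟨k, hk, hk'⟩ := h1
      exact ⟨k, ⟨k, ⟨k, hk, rfl⟩, rfl⟩, congrArg Subtype.val hk'⟩
    · rintro x ⟨x', ⟨k, hk, hkx⟩, hx'⟩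
      have e : x' = x := Subtype.ext hx'
      rw [← e, ← hkx]
      exact k.2
  refine scalar ρ.range ?_ ?_ ?_ ?_ (w := ρ ⟨w, hw⟩) ⟨⟨w, hw⟩, rfl⟩ (α := α) ?_
  · rintro _ ⟨x, rfl⟩ v v'
    have h1 := hρ x (s v * s v') (mul_mem (hsY v) (hsY v'))
    rw [hmul _ (hsY v) _ (hsY v'), hs, hs] at h1
    rw [h1]
    have e : (x : G) * (s v * s v') * (x : G)⁻¹ = (x * s v * (x : G)⁻¹) * (x * s v' * (x : G)⁻¹) := by group
    rw [e, hmul _ (hXY x x.2 _ (hsY v)) _ (hXY x x.2 _ (hsY v'))]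
    rfl
  · intro A
    obtain ⟨x, hx, h1⟩ := hSL A
    refine ⟨ρ ⟨x, hx⟩, ⟨⟨x, hx⟩, rfl⟩, fun v => ?_⟩
    have h3 := h1 (s v) (hsY v)
    rw [hs] at h3
    exact h3
  · intro T' hT' hsq
    have hp : IsPGroup 2 T' := fun t => ⟨1, by
      apply Subtype.ext
      rw [pow_one, pow_two]
      exact hsq t t.2⟩
    obtain ⟨T, hTX, hTp, hT1, hT2⟩ := hlift T' hT' hp
    refine le_trans ?_ (h2 T hTX hTp)
    -- `T → T'` factors through `T / (T ∩ C)`
    let θ : T →* T' := MonoidHom.mk' (fun t => ⟨ρ ⟨t, hTX t.2⟩, hT2 _ t.2⟩) (fun a b => Subtype.ext (by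
      show ρ (⟨a, hTX a.2⟩ * ⟨b, hTX b.2⟩) = _
      rw [map_mul]; rfl))
    have hθ : Function.Surjective θ := by
      rintro ⟨t', ht'⟩
      obtain ⟨x, hx, hx'⟩ := hT1 t' ht'
      exact ⟨⟨x, hx⟩, Subtype.ext hx'⟩
    have hk : C.subgroupOf T ≤ θ.ker := by
      intro t ht
      rw [MonoidHom.mem_ker]
      exact Subtype.ext (hρC ⟨t, hTX t.2⟩ ht)
    have h3 : Nat.card T' = θ.ker.index := by
      rw [Subgroup.index_ker, MonoidHom.range_eq_top.2 hθ, Subgroup.card_top]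
    rw [h3, relIndex]
    exact Nat.le_of_dvd (Nat.pos_of_ne_zero index_ne_zero_of_finite) (index_dvd_of_le hk)
  · rintro _ ⟨x, rfl⟩ hx4
    have hp : IsPGroup 2 (zpowers (ρ x)) := by
      rintro ⟨_, ⟨k, rfl⟩⟩
      refine ⟨2, Subtype.ext ?_⟩
      show ((ρ x) ^ k) ^ (2 ^ 2) = 1
      rw [← zpow_natCast, ← zpow_mul, mul_comm, zpow_mul, zpow_natCast]
      norm_num
      rw [hx4, one_zpow]
    have hle : zpowers (ρ x) ≤ ρ.range := by
      rw [zpowers_le]; exact ⟨x, rfl⟩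
    obtain ⟨T, hTX, hTp, hT1, -⟩ := hlift _ hle hp
    obtain ⟨x', hx', e⟩ := hT1 _ (mem_zpowers _)
    have h5 := hρC (x' * x') (h4 T hTX hTp x' hx')
    rw [map_mul, e] at h5
    rw [pow_two, h5]
  · intro v
    have h3 := hα (s v) (hsY v)
    rw [hs] at h3
    exact h3

end act

end Cfsg.Agent.Omega.HOne.NSK
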